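import Mathlib

/-!
Recovering a finite simple group from its commuting graph, with a computable certificate: the
conjugacy class of an involution, the commuting graph on it and a bound on its automorphism
group.
-/

set_option autoImplicit false

namespace Cfsg.Agent.CommGraph

open scoped Pointwise

/-! ### Centralisers and conjugation under a commutation-preserving bijection -/

theorem card_centralizer_congr {H L : Type*} [Group H] [Group L] (F : H ≃ L)
    (hF : ∀ x y : H, Commute x y ↔ Commute (F x) (F y)) (h : H) :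
    Nat.card (Subgroup.centralizer {h}) = Nat.card (Subgroup.centralizer {F h}) :=
  Nat.card_congr (F.subtypeEquiv fun x => by
    rw [Subgroup.mem_centralizer_singleton_iff, Subgroup.mem_centralizer_singleton_iff]
    exact hF x h)

theorem card_centralizer_conj {H : Type*} [Group H] (g h : H) :
    Nat.card (Subgroup.centralizer {g * h * g⁻¹}) = Nat.card (Subgroup.centralizer {h}) :=
  (card_centralizer_congr (MulAut.conj g).toEquiv
    (fun _ _ => (Commute.conj_iff g).symm) h).symm

/-! ### Automorphisms of a coded graph -/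

/-- Adjacency from rows of bits. -/
def adj (rows : List ℕ) (i j : ℕ) : Bool := (rows.getD i 0).testBit j

/-- Number of common neighbours. -/
def common (rows : List ℕ) (n i j : ℕ) : ℕ :=
  (List.finRange n).countP fun x : Fin n => adj rows i x && adj rows j x

/-- The automorphisms of the coded graph. -/
def autGroup (n : ℕ) (rows : List ℕ) : Subgroup (Equiv.Perm (Fin n)) where
  carrier := {σ | ∀ i j : Fin n, adj rows (σ i) (σ j) = adj rows i j}
  one_mem' := fun _ _ => rfl
  mul_mem' := fun {a b} ha hb i j => (ha (b i) (b j)).trans (hb i j)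
  inv_mem' := fun {a} ha i j => by
    have h := ha (a⁻¹ i) (a⁻¹ j)
    simp only [Equiv.Perm.inv_def, Equiv.apply_symm_apply] at h
    exact h.symm

theorem common_map {n : ℕ} {rows : List ℕ} {σ : Equiv.Perm (Fin n)} (hσ : σ ∈ autGroup n rows)
    (i j : Fin n) : common rows n (σ i) (σ j) = common rows n i j := by
  unfold common
  have hp : ((List.finRange n).map σ).Perm (List.finRange n) :=
    σ.map_finRange_perm
  rw [← hp.countP_eq, List.countP_map]
  refine List.countP_congr fun x _ => ?_
  simp only [Function.comp_apply, hσ i x, hσ j x]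

/-- The vertices not in `D` that look like `v` from `D`. -/
def cands {n : ℕ} (rows : List ℕ) (D : List (Fin n)) (v : Fin n) (useCommon : Bool) : List (Fin n) :=
  (List.finRange n).filter fun u =>
    D.all (fun d => adj rows u d == adj rows v d) && !D.contains u &&
      (!useCommon || D.all (fun d => common rows n u d == common rows n v d))

/-- Product of the candidate counts along a certificate. -/
def boundOf {n : ℕ} (rows : List ℕ) : List (Fin n) → List (Fin n × Bool) → ℕ
  | _, [] => 1
  | D, (v, b) :: rest =>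
    if D.contains v then boundOf rows D rest
    else (cands rows D v b).length * boundOf rows (v :: D) rest

theorem card_fix_le {n : ℕ} (rows : List ℕ) : ∀ (steps : List (Fin n × Bool)) (D : List (Fin n))
    (A : Subgroup (Equiv.Perm (Fin n))), A ≤ autGroup n rows →
    (∀ a ∈ A, ∀ d ∈ D, a d = d) → (∀ x : Fin n, x ∈ D ∨ x ∈ steps.map Prod.fst) →
    Nat.card A ≤ boundOf rows D steps := by
  intro steps
  induction steps with
  | nil =>
    intro D A _ hfix hall
    have : A = ⊥ := (Subgroup.eq_bot_iff_forall _).mpr fun a ha => Equiv.ext fun x =>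
      hfix a ha x ((hall x).resolve_right (by simp))
    rw [this, Subgroup.card_bot, boundOf]
  | cons p rest ih =>
    obtain ⟨v, b⟩ := p
    intro D A hA hfix hall
    simp only [boundOf]
    by_cases hv : D.contains v = true
    · rw [if_pos hv]
      refine ih D A hA hfix fun x => ?_
      rcases hall x with h | h
      · exact Or.inl h
      · rw [List.map_cons, List.mem_cons] at h
        rcases h with rfl | h
        · exact Or.inl (List.contains_iff_mem.mp hv)
        · exact Or.inr h
    rw [if_neg hv]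
    let S : Subgroup (Equiv.Perm (Fin n)) := A ⊓ MulAction.stabilizer (Equiv.Perm (Fin n)) v
    have horb : (MulAction.stabilizer A v).index ≤ (cands rows D v b).length := by
      rw [MulAction.index_stabilizer]
      have hsub : MulAction.orbit A v ⊆ {u | u ∈ cands rows D v b} := by
        rintro _ ⟨⟨a, ha⟩, rfl⟩
        show a v ∈ cands rows D v b
        rw [cands, List.mem_filter]
        refine ⟨List.mem_finRange _, ?_⟩
        have hadj : ∀ d ∈ D, adj rows (a v) d = adj rows v d := fun d hd => by
          have := hA ha v d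
          rwa [hfix a ha d hd] at this
        have hcom : ∀ d ∈ D, common rows n (a v) d = common rows n v d := fun d hd => by
          have := common_map (hA ha) v d
          rwa [hfix a ha d hd] at this
        have hmem : a v ∉ D := fun h => by
          apply hv
          rw [List.contains_iff_mem]
          have := a.injective (hfix a ha _ h)
          exact this ▸ h
        simp only [Bool.and_eq_true, Bool.or_eq_true, List.all_eq_true, beq_iff_eq, Bool.not_eq_true',
          List.contains_eq_mem, decide_eq_false_iff_not]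
        exact ⟨⟨hadj, hmem⟩, Or.inr hcom⟩
      refine le_trans (Set.ncard_le_ncard hsub (Set.toFinite _)) ?_
      rw [show {u | u ∈ cands rows D v b} = ((cands rows D v b).toFinset : Set (Fin n)) by ext; simp,
        Set.ncard_coe_finset]
      exact List.toFinset_card_le _
    have hS : Nat.card S = Nat.card (MulAction.stabilizer A v) := by
      rw [Nat.card_congr ((MulAction.stabilizer A v).equivMapOfInjective _ A.subtype_injective).toEquiv]
      congr 1
      refine congrArg (fun K : Subgroup (Equiv.Perm (Fin n)) => ↥K) ?_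
      ext g
      constructor
      · rintro ⟨h1, h2⟩; exact ⟨⟨g, h1⟩, h2, rfl⟩
      · rintro ⟨⟨g, hg⟩, h2, rfl⟩; exact ⟨hg, h2⟩
    have hrec := ih (v :: D) S (inf_le_left.trans hA)
      (fun a ha d hd => by
        rcases List.mem_cons.mp hd with rfl | hd
        · exact ha.2
        · exact hfix a ha.1 d hd)
      (fun x => by
        rcases hall x with h | h
        · exact Or.inl (List.mem_cons_of_mem _ h)
        · rw [List.map_cons, List.mem_cons] at h
          rcases h with rfl | h
          · exact Or.inl List.mem_cons_self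
          · exact Or.inr h)
    rw [← (MulAction.stabilizer A v).index_mul_card, ← hS]
    exact Nat.mul_le_mul horb hrec

/-! ### The representation on a distinguished class -/

theorem exists_rep {H L : Type*} [Group H] [Group L] (F : H ≃ L)
    (hF : ∀ x y : H, Commute x y ↔ Commute (F x) (F y)) {n : ℕ} (e : Fin n → L)
    (he : Function.Injective e) (rows : List ℕ)
    (hadj : ∀ i j : Fin n, adj rows i j = true ↔ Commute (e i) (e j)) (c : ℕ)
    (hS : ∀ v : L, v ∈ Set.range e ↔ Nat.card (Subgroup.centralizer {v}) = c)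
    (hgen : ∀ v : L, (∀ i, Commute v (e i)) → v = 1) (hF1 : F 1 = 1) :
    ∃ ρ : H →* Equiv.Perm (Fin n), Function.Injective ρ ∧ ρ.range ≤ autGroup n rows := by
  let T := {h : H // F h ∈ Set.range e}
  let ε : Fin n ≃ T :=
    (Equiv.ofInjective e he).trans (F.subtypeEquiv (p := fun h => F h ∈ Set.range e)
      (q := fun v => v ∈ Set.range e) fun _ => Iff.rfl).symm
  have hε : ∀ i, F (ε i).1 = e i := fun i => F.apply_symm_apply _
  have hT : ∀ (g : H) (t : T), F (g * t.1 * g⁻¹) ∈ Set.range e := fun g t => by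
    rw [hS, ← card_centralizer_congr F hF, card_centralizer_conj, card_centralizer_congr F hF, ← hS]
    exact t.2
  let π : H → Fin n → Fin n := fun g i => ε.symm ⟨g * (ε i).1 * g⁻¹, hT g (ε i)⟩
  have hπ : ∀ g i, (ε (π g i)).1 = g * (ε i).1 * g⁻¹ := fun g i =>
    congrArg Subtype.val (ε.apply_symm_apply _)
  have hmul : ∀ g g' i, π (g * g') i = π g (π g' i) := fun g g' i => by
    apply ε.injective
    apply Subtype.ext
    rw [hπ, hπ, hπ]
    group
  have hone : ∀ i, π 1 i = i := fun i => by
    apply ε.injective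
    apply Subtype.ext
    rw [hπ]; group
  let P : H → Equiv.Perm (Fin n) := fun g =>
    ⟨π g, π g⁻¹, fun i => by rw [← hmul, inv_mul_cancel, hone],
      fun i => by rw [← hmul, mul_inv_cancel, hone]⟩
  let ρ : H →* Equiv.Perm (Fin n) :=
    { toFun := P
      map_one' := Equiv.ext hone
      map_mul' := fun g g' => Equiv.ext fun i => hmul g g' i }
  refine ⟨ρ, ?_, ?_⟩
  · rw [injective_iff_map_eq_one]
    intro g hg
    have hv : F g = 1 := by
      refine hgen _ fun i => ?_
      rw [← hε i, ← hF]
      have h1 : (ε (π g i)).1 = (ε i).1 := by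
        rw [show π g i = i from DFunLike.congr_fun hg i]
      rw [hπ, mul_inv_eq_iff_eq_mul] at h1
      exact h1
    exact F.injective (hv.trans hF1.symm)
  · rintro _ ⟨g, rfl⟩ i j
    show adj rows (π g i) (π g j) = adj rows i j
    rw [Bool.eq_iff_iff, hadj, hadj, ← hε, ← hε, ← hF, hπ, hπ, ← hε, ← hε, ← hF]
    exact Commute.conj_iff g

/-- A simple group with a certified commuting graph is determined by it. -/
theorem recover {H L : Type*} [Group H] [Finite H] [Group L] [Finite L] [IsSimpleGroup L]
    (f : {h : H // h ≠ 1} ≃ {g : L // g ≠ 1})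
    (hf : ∀ x y : {h : H // h ≠ 1}, (x : H) * y = y * x ↔ ((f x) : L) * (f y) = (f y) * (f x))
    {n : ℕ} (e : Fin n → L) (he : Function.Injective e) (rows : List ℕ)
    (hadj : ∀ i j : Fin n, adj rows i j = true ↔ Commute (e i) (e j)) (c : ℕ)
    (hS : ∀ v : L, v ∈ Set.range e ↔ Nat.card (Subgroup.centralizer {v}) = c)
    (hgen : ∀ v : L, (∀ i, Commute v (e i)) → v = 1) (k : ℕ)
    (hbound : Nat.card (autGroup n rows) ≤ k * Nat.card L)
    (hfac : ∀ i, i ≤ k → ¬ Nat.card L ∣ i.factorial) :
    Nonempty (H ≃* L) := by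
  classical
  let F : H ≃ L :=
    { toFun := fun h => if hh : h = 1 then 1 else (f ⟨h, hh⟩).1
      invFun := fun g => if hg : g = 1 then 1 else (f.symm ⟨g, hg⟩).1
      left_inv := fun h => by
        by_cases hh : h = 1
        · simp [hh]
        · simp [hh, (f ⟨h, hh⟩).2]
      right_inv := fun g => by
        by_cases hg : g = 1
        · simp [hg]
        · simp [hg, (f.symm ⟨g, hg⟩).2] }
  have hF1 : F 1 = 1 := dif_pos rfl
  have hF : ∀ x y : H, Commute x y ↔ Commute (F x) (F y) := fun x y => by
    by_cases hx : x = 1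
    · simp [hx, hF1]
    by_cases hy : y = 1
    · simp [hy, hF1]
    have ex : F x = (f ⟨x, hx⟩).1 := dif_neg hx
    have ey : F y = (f ⟨y, hy⟩).1 := dif_neg hy
    rw [ex, ey]
    exact hf ⟨x, hx⟩ ⟨y, hy⟩
  obtain ⟨ρ, hρ, hρA⟩ := exists_rep F hF e he rows hadj c hS hgen hF1
  obtain ⟨τ, hτ, hτA⟩ := exists_rep (Equiv.refl L) (fun _ _ => Iff.rfl) e he rows hadj c hS hgen rfl
  have hcard : Nat.card H = Nat.card L := Nat.card_congr F
  have hcP : Nat.card ρ.range = Nat.card L := by
    rw [Nat.card_congr (MonoidHom.ofInjective hρ).toEquiv.symm, hcard]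
  have hcQ : Nat.card τ.range = Nat.card L :=
    Nat.card_congr (MonoidHom.ofInjective hτ).toEquiv.symm
  set M := ρ.range.comap τ with hM
  have hle : Nat.card L * M.index ≤ k * Nat.card L := by
    refine le_trans ?_ hbound
    calc Nat.card L * M.index ≤ Nat.card ρ.range * ρ.range.relIndex (autGroup n rows) := by
          rw [hcP, hM, Subgroup.index_comap]
          exact Nat.mul_le_mul_left _
            (Subgroup.relIndex_le_of_le_right hτA (Subgroup.index_ne_zero_of_finite (H := ρ.range.subgroupOf (autGroup n rows))))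
      _ = Nat.card (autGroup n rows) := by
          rw [Subgroup.relIndex, ← Subgroup.card_mul_index (ρ.range.subgroupOf (autGroup n rows)),
            Nat.card_congr (Subgroup.subgroupOfEquivOfLe hρA).toEquiv]
  have hMtop : M = ⊤ := by
    by_contra hne
    have hi : M.index ≤ k := Nat.le_of_mul_le_mul_left (by rw [mul_comm k] at hle; exact hle) Nat.card_pos
    apply hfac M.index hi
    have hcore : M.normalCore = ⊥ := (M.normalCore_normal.eq_bot_or_eq_top).resolve_right
      fun h => hne (top_le_iff.mp (h ▸ M.normalCore_le))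
    rw [Subgroup.normalCore_eq_ker] at hcore
    have hinj : Function.Injective (MulAction.toPermHom L (L ⧸ M)) :=
      (MonoidHom.ker_eq_bot_iff _).mp hcore
    have := Subgroup.card_dvd_of_injective _ hinj
    rwa [Nat.card_perm, ← Subgroup.index_eq_card] at this
  have hQP : τ.range ≤ ρ.range := by
    rintro _ ⟨g, rfl⟩
    exact (hMtop ▸ Subgroup.mem_top g : g ∈ M)
  have heq : τ.range = ρ.range := Subgroup.eq_of_le_of_card_ge hQP (by rw [hcP, hcQ])
  exact ⟨(MonoidHom.ofInjective hρ).trans ((MulEquiv.subgroupCongr heq.symm).trans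
    (MonoidHom.ofInjective hτ).symm)⟩

/-! ### Certificates -/

/-- Certificate data for the class of an involution. -/
structure Cert where
  /-- Number of vertices. -/
  n : ℕ
  /-- The generators. -/
  gens : List ℕ
  /-- Words for the inverses of the generators. -/
  ginv : List (List ℕ)
  /-- Class members: code, generator, parent, successors. -/
  cls : List (ℕ × ℕ × ℕ × List ℕ)
  /-- Centraliser of the first class member: code and word. -/
  cz : List (ℕ × List ℕ)
  /-- Generators of a Sylow 2-subgroup, as indices in `cz`. -/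
  pa : ℕ
  /-- See `pa`. -/
  pb : ℕ
  /-- The commutation rows. -/
  rows : List ℕ
  /-- Order of vertices for the automorphism bound. -/
  steps : List (ℕ × Bool)

/-- Word product on codes. -/
def wordCode (mulC : ℕ → ℕ → ℕ) (one : ℕ) (gens : List ℕ) : List ℕ → ℕ
  | [] => one
  | k :: w => mulC (gens.getD k one) (wordCode mulC one gens w)

/-- Code of a class member. -/
def Cert.clsC (d : Cert) (i : ℕ) : ℕ := (d.cls.getD i (0, 0, 0, [])).1

/-- Code of a centraliser member. -/
def Cert.czC (d : Cert) (i : ℕ) : ℕ := (d.cz.getD i (0, [])).1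

/-- The class is generated from the first member by conjugation. -/
def Cert.orbitOK (d : Cert) (mulC : ℕ → ℕ → ℕ) (one : ℕ) : Bool :=
  ((List.range d.gens.length).all fun k =>
    Nat.beq (mulC (d.gens.getD k 0) (wordCode mulC one d.gens (d.ginv.getD k []))) one &&
    (d.ginv.getD k []).all (fun j => Nat.blt j d.gens.length)) &&
  ((List.range d.n).all fun i =>
    let r := d.cls.getD i (0, 0, 0, [])
    (Nat.beq i 0 || (Nat.blt r.2.2.1 i && Nat.blt r.2.1 d.gens.length &&
      Nat.beq (mulC (mulC (d.gens.getD r.2.1 0) (d.clsC r.2.2.1))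
        (wordCode mulC one d.gens (d.ginv.getD r.2.1 []))) r.1)) &&
    (List.range d.gens.length).all fun k =>
      Nat.blt (r.2.2.2.getD k 0) d.n &&
        Nat.beq (mulC (d.gens.getD k 0) r.1) (mulC (d.clsC (r.2.2.2.getD k 0)) (d.gens.getD k 0)))

/-- The listed centraliser. -/
def Cert.czOK (d : Cert) (mulC : ℕ → ℕ → ℕ) (one : ℕ) : Bool :=
  d.cz.all (fun r => Nat.beq (wordCode mulC one d.gens r.2) r.1 &&
    r.2.all (fun k => Nat.blt k d.gens.length) &&
    Nat.beq (mulC r.1 (d.clsC 0)) (mulC (d.clsC 0) r.1))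

/-- The Sylow data. -/
def Cert.sylOK (d : Cert) (mulC : ℕ → ℕ → ℕ) (one : ℕ) : Bool :=
  let a := d.czC d.pa
  let b := d.czC d.pb
  let a2 := mulC a a
  let a4 := mulC a2 a2
  Nat.blt d.pa d.cz.length && Nat.blt d.pb d.cz.length && Nat.beq a4 (d.clsC 0) &&
    Nat.beq (mulC a4 a4) one && !Nat.beq a4 one && Nat.beq (mulC b b) one &&
    Nat.beq (mulC (mulC b a) b) (mulC a2 a) &&
    d.cz.all (fun r => !(Nat.beq (mulC r.1 a) (mulC a r.1) && Nat.beq (mulC r.1 b) (mulC b r.1)) ||
      Nat.beq r.1 one || Nat.beq r.1 (d.clsC 0))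

/-- Nothing but the identity commutes with the whole class. -/
def Cert.genOK (d : Cert) (mulC : ℕ → ℕ → ℕ) (one : ℕ) : Bool :=
  d.cz.all fun r => Nat.beq r.1 one ||
    (List.range d.n).any fun i => !Nat.beq (mulC r.1 (d.clsC i)) (mulC (d.clsC i) r.1)

/-- The rows. -/
def Cert.rowsOK (d : Cert) (mulC : ℕ → ℕ → ℕ) : Bool :=
  (List.range d.n).all fun i => (List.range d.n).all fun j =>
    adj d.rows i j == Nat.beq (mulC (d.clsC i) (d.clsC j)) (mulC (d.clsC j) (d.clsC i))

/-- The steps as vertices. -/
def Cert.stepList (d : Cert) : List (Fin d.n × Bool) :=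
  d.steps.filterMap fun p => if h : p.1 < d.n then some (⟨p.1, h⟩, p.2) else none

theorem recover_of_cert {H G : Type*} [Group H] [Finite H] [Group G] (L : Subgroup G) [Finite L]
    [IsSimpleGroup L] (f : {h : H // h ≠ 1} ≃ {g : L // g ≠ 1})
    (hf : ∀ x y : {h : H // h ≠ 1}, (x : H) * y = y * x ↔ ((f x) : L) * (f y) = (f y) * (f x))
    (enc : G → ℕ) (henc : Function.Injective enc) (mulC : ℕ → ℕ → ℕ)
    (hmul : ∀ a b, enc (a * b) = mulC (enc a) (enc b)) (one : ℕ) (hone : enc 1 = one)
    (d : Cert) (g : List G) (hg : g.map enc = d.gens)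
    (hL : Subgroup.closure {x | x ∈ g} = L) (N m k : ℕ) (hN : Nat.card L = N)
    (hn : 0 < d.n) (hNm : m * d.n = N) (hm : 0 < m) (h16 : 16 ∣ m) (h32 : ¬ 32 ∣ N)
    (hclslen : d.cls.length = d.n) (hclsnd : (d.cls.map fun r => r.1).Nodup)
    (hczlen : d.cz.length = m) (hcznd : (d.cz.map fun r => r.1).Nodup)
    (horb : d.orbitOK mulC one = true) (hcz : d.czOK mulC one = true)
    (hsyl : d.sylOK mulC one = true) (hgen : d.genOK mulC one = true)
    (hrows : d.rowsOK mulC = true) (hstep : ∀ x : Fin d.n, x ∈ d.stepList.map Prod.fst)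
    (hbd : boundOf d.rows [] d.stepList ≤ k * N) (hfac : ∀ i, i ≤ k → ¬ N ∣ i.factorial) :
    Nonempty (H ≃* L) := by
  classical
  have hglen : g.length = d.gens.length := by rw [← hg, List.length_map]
  have hgmem : ∀ x ∈ g, x ∈ L := fun x hx => hL ▸ Subgroup.subset_closure hx
  have hgc : ∀ k, k < d.gens.length → ∃ x : L, enc x = d.gens.getD k 0 := fun k hk => by
    refine ⟨⟨g[k]'(by omega), hgmem _ (List.getElem_mem _)⟩, ?_⟩
    rw [List.getD_eq_getElem _ _ hk]
    simp only [← hg, List.getElem_map]
  have hword : ∀ w : List ℕ, (∀ k ∈ w, k < d.gens.length) →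
      ∃ x : L, enc x = wordCode mulC one d.gens w := by
    intro w
    induction w with
    | nil => exact fun _ => ⟨1, hone⟩
    | cons k w ih =>
      intro hw
      obtain ⟨x, hx⟩ := hgc k (hw k List.mem_cons_self)
      obtain ⟨y, hy⟩ := ih fun k hk => hw k (List.mem_cons_of_mem _ hk)
      refine ⟨x * y, ?_⟩
      rw [Subgroup.coe_mul, hmul, hx, hy, wordCode, List.getD_eq_getElem _ _ (hw k List.mem_cons_self),
        List.getD_eq_getElem _ _ (hw k List.mem_cons_self)]
  have hinj : ∀ {x y : L}, enc (x : G) = enc (y : G) → x = y := fun h => Subtype.ext (henc h)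
  have hcomm : ∀ x y : L, Commute x y ↔ mulC (enc (x : G)) (enc (y : G)) = mulC (enc (y : G)) (enc (x : G)) :=
    fun x y => by
      rw [← hmul, ← hmul, henc.eq_iff]
      exact ⟨fun h => congrArg Subtype.val h.eq, fun h => Subtype.ext h⟩
  simp only [Cert.orbitOK, List.all_eq_true, List.mem_range, Bool.and_eq_true, Bool.or_eq_true,
    Nat.beq_eq, Nat.blt_eq] at horb
  obtain ⟨hginv, horb⟩ := horb
  simp only [Cert.czOK, List.all_eq_true, Bool.and_eq_true, Nat.beq_eq, Nat.blt_eq] at hcz
  -- the class of the first member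
  have hczval : ∀ r ∈ d.cz, ∃ x : L, enc (x : G) = r.1 := fun r hr => by
    obtain ⟨x, hx⟩ := hword r.2 (hcz r hr).1.2
    exact ⟨x, hx.trans (hcz r hr).1.1⟩
  simp only [Cert.sylOK, Bool.and_eq_true, Nat.beq_eq, Nat.blt_eq, List.all_eq_true] at hsyl
  obtain ⟨⟨⟨⟨⟨⟨⟨hpa, hpb⟩, ha4⟩, ha8⟩, ha4ne⟩, hb2⟩, hbab⟩, hcent⟩ := hsyl
  obtain ⟨a, ha⟩ := hczval _ (show d.cz.getD d.pa (0, []) ∈ d.cz by
    rw [List.getD_eq_getElem _ _ hpa]; exact List.getElem_mem _)
  obtain ⟨b, hb⟩ := hczval _ (show d.cz.getD d.pb (0, []) ∈ d.cz by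
    rw [List.getD_eq_getElem _ _ hpb]; exact List.getElem_mem _)
  simp only [Cert.czC] at ha4 ha8 ha4ne hb2 hbab hcent
  simp only [← ha, ← hb, ← hmul, ← hone, ← Subgroup.coe_mul] at ha4 ha8 ha4ne hb2 hbab
  set z := a * a * (a * a) with hz
  have hz0 : enc (z : G) = d.clsC 0 := ha4
  have hzne : z ≠ 1 := fun h => by rw [h] at ha4ne; simp at ha4ne
  have hcls : ∀ i, i < d.n → ∃ x : L, enc (x : G) = d.clsC i ∧ IsConj z x := by
    intro i
    induction i using Nat.strong_induction_on with
    | _ i ih =>
      intro hi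
      rcases Nat.eq_zero_or_pos i with rfl | hpos
      · exact ⟨z, hz0, IsConj.refl z⟩
      · obtain ⟨⟨hp, hk⟩, heq⟩ := (horb i hi).1.resolve_left (by omega)
        obtain ⟨y, hy, hyz⟩ := ih _ hp (hp.trans hi)
        obtain ⟨x, hx⟩ := hgc _ hk
        refine ⟨x * y * x⁻¹, ?_, hyz.trans (isConj_iff.mpr ⟨x, rfl⟩)⟩
        obtain ⟨x', hx'⟩ := hword _ (hginv _ hk).2
        have hxx : x * x' = 1 := hinj (by
          rw [Subgroup.coe_mul, hmul, hx, hx', (hginv _ hk).1, Subgroup.coe_one, hone])
        rw [inv_eq_of_mul_eq_one_right hxx, Subgroup.coe_mul, Subgroup.coe_mul, hmul, hmul, hx, hy, hx',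
          heq]
        rfl
  let e : Fin d.n → L := fun i => (hcls i i.2).choose
  have he : ∀ i : Fin d.n, enc (e i : G) = d.clsC i := fun i => (hcls i i.2).choose_spec.1
  have hez : ∀ i : Fin d.n, IsConj z (e i) := fun i => (hcls i i.2).choose_spec.2
  have heinj : Function.Injective e := by
    intro i j h
    have h1 : d.clsC i = d.clsC j := by rw [← he, ← he, h]
    have hi : (i : ℕ) < d.cls.length := hclslen.symm ▸ i.2
    have hj : (j : ℕ) < d.cls.length := hclslen.symm ▸ j.2
    simp only [Cert.clsC, List.getD_eq_getElem _ _ hi, List.getD_eq_getElem _ _ hj] at h1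
    apply Fin.ext
    exact (List.Nodup.getElem_inj_iff (l := d.cls.map fun r => r.1) (i := (i : ℕ))
      (hi := by simpa using hi) (j := (j : ℕ)) (hj := by simpa using hj) hclsnd).mp (by simpa using h1)
  have hz_e : z = e ⟨0, hn⟩ := hinj (by rw [he, hz0])
  -- the range is the whole class
  let R : Subgroup L :=
    { carrier := {x | ∀ v : L, v ∈ Set.range e ↔ x * v * x⁻¹ ∈ Set.range e}
      one_mem' := fun v => by simp
      mul_mem' := fun {x y} hx hy v => by
        rw [hy v, hx (y * v * y⁻¹), show x * (y * v * y⁻¹) * x⁻¹ = x * y * v * (x * y)⁻¹ by group]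
      inv_mem' := fun {x} hx v => by
        rw [hx (x⁻¹ * v * x⁻¹⁻¹), show x * (x⁻¹ * v * x⁻¹⁻¹) * x⁻¹ = v by group] }
  have hgR : ∀ x : L, (x : G) ∈ g → x ∈ R := by
    intro x hx
    obtain ⟨k, hk, hxk⟩ := List.getElem_of_mem hx
    have hk' : k < d.gens.length := by omega
    have hxc : enc (x : G) = d.gens.getD k 0 := by
      rw [List.getD_eq_getElem _ _ hk', ← hxk]
      simp only [← hg, List.getElem_map]
    have hinto : Set.MapsTo (fun v => x * v * x⁻¹) (Set.range e) (Set.range e) := by
      rintro _ ⟨i, rfl⟩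
      obtain ⟨hj, heq⟩ := (horb i i.2).2 k hk'
      refine ⟨⟨_, hj⟩, ?_⟩
      rw [eq_mul_inv_iff_mul_eq]
      apply hinj
      rw [Subgroup.coe_mul, Subgroup.coe_mul, hmul, hmul, he, he, hxc]
      exact heq.symm
    intro v
    refine ⟨fun hv => hinto hv, fun hv => ?_⟩
    obtain ⟨w, hw, hwv⟩ := (((Set.toFinite (Set.range e)).injOn_iff_bijOn_of_mapsTo hinto).mp
      (fun p _ q _ h => by simpa using h)).surjOn hv
    exact (show w = v by simpa using hwv) ▸ hw
  have hR : ∀ x : L, x ∈ R := by
    intro x
    have hx : (x : G) ∈ R.map L.subtype := by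
      have : L ≤ R.map L.subtype := by
        conv_lhs => rw [← hL]
        rw [Subgroup.closure_le]
        intro y hy
        exact ⟨⟨y, hgmem y hy⟩, hgR _ hy, rfl⟩
      exact this x.2
    obtain ⟨y, hy, hyx⟩ := hx
    exact (Subtype.ext hyx : y = x) ▸ hy
  have hclass : ∀ v : L, v ∈ Set.range e ↔ IsConj z v := by
    intro v
    constructor
    · rintro ⟨i, rfl⟩; exact hez i
    · intro hv
      obtain ⟨x, rfl⟩ := isConj_iff.mp hv
      exact (hR x z).mp ⟨_, hz_e.symm⟩
  -- the centraliser of the involution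
  have hcent_card : Nat.card (Subgroup.centralizer {z}) = m := by
    have h1 : Nat.card (MulAction.orbit (ConjAct L) z) = d.n := by
      have : MulAction.orbit (ConjAct L) z = Set.range e := by
        ext v
        rw [hclass, ConjAct.mem_orbit_conjAct, isConj_comm]
      rw [this, Nat.card_range_of_injective heinj, Nat.card_fin]
    have h2 := (MulAction.stabilizer (ConjAct L) z).card_mul_index
    rw [MulAction.index_stabilizer, ← Nat.card_coe_set_eq, h1, Nat.card_congr ConjAct.toConjAct.symm.toEquiv,
      hN, ← hNm] at h2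
    have h3 := Nat.eq_of_mul_eq_mul_right hn h2
    refine (Nat.card_congr ?_).trans h3
    exact ConjAct.toConjAct.toEquiv.subtypeEquiv fun x => by
      show x ∈ Subgroup.centralizer {z} ↔ ConjAct.toConjAct x • z = z
      rw [Subgroup.mem_centralizer_singleton_iff, ConjAct.smul_def, ConjAct.ofConjAct_toConjAct,
        mul_inv_eq_iff_eq_mul]
  have hczlist : ∀ v : L, Commute v z → ∃ r ∈ d.cz, enc (v : G) = r.1 := by
    intro v hv
    have hmem : ∀ r : {r // r ∈ d.cz}, (hczval r.1 r.2).choose ∈ Subgroup.centralizer {z} := fun r => by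
      rw [Subgroup.mem_centralizer_singleton_iff]
      refine Commute.eq ?_
      rw [hcomm, (hczval r.1 r.2).choose_spec, hz0]
      exact (hcz r.1 r.2).2
    let φ : {c // c ∈ (d.cz.map fun r => r.1).toFinset} → Subgroup.centralizer {z} := fun c =>
      have hc : ∃ r ∈ d.cz, r.1 = c.1 := by
        have h := c.2; rw [List.mem_toFinset, List.mem_map] at h; exact h
      ⟨_, hmem ⟨hc.choose, hc.choose_spec.1⟩⟩
    have hφ : ∀ c, enc ((φ c : L) : G) = c.1 := fun c => by
      have hc : ∃ r ∈ d.cz, r.1 = c.1 := by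
        have h := c.2; rw [List.mem_toFinset, List.mem_map] at h; exact h
      exact ((hczval _ hc.choose_spec.1).choose_spec).trans hc.choose_spec.2
    have hbij : Function.Bijective φ := by
      rw [Nat.bijective_iff_injective_and_card]
      refine ⟨fun p q h => Subtype.ext (by rw [← hφ p, ← hφ q, h]), ?_⟩
      rw [hcent_card, Nat.card_eq_fintype_card, Fintype.card_coe, List.toFinset_card_of_nodup hcznd,
        List.length_map, hczlen]
    obtain ⟨c, hc⟩ := hbij.2 ⟨v, Subgroup.mem_centralizer_singleton_iff.mpr hv.eq⟩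
    obtain ⟨r, hr, hr'⟩ : ∃ r ∈ d.cz, r.1 = c.1 := by
      have h := c.2; rw [List.mem_toFinset, List.mem_map] at h; exact h
    exact ⟨r, hr, by rw [hr', ← hφ c, hc]⟩
  -- a Sylow 2-subgroup and its centraliser
  have ha8' : z * z = 1 := hinj (by rw [ha8, Subgroup.coe_one])
  have hbb : b * b = 1 := hinj (by rw [hb2, Subgroup.coe_one])
  have hconj : b * a * b = a * a * a := hinj hbab
  have hao : orderOf a ∣ 2 ^ 3 := orderOf_dvd_of_pow_eq_one (by
    rw [show (2 : ℕ) ^ 3 = 4 * 2 from rfl, pow_mul, show a ^ 4 = z by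
      rw [hz]; simp only [pow_succ, pow_zero, one_mul, mul_assoc], pow_two, ha8'])
  have hPg : IsPGroup 2 (Subgroup.zpowers a ⊔ Subgroup.zpowers b : Subgroup L) := by
    have hA : IsPGroup 2 (Subgroup.zpowers a) := by
      obtain ⟨j, -, hj⟩ := (Nat.dvd_prime_pow Nat.prime_two).mp hao
      exact IsPGroup.of_card (n := j) (by rw [Nat.card_zpowers, hj])
    have hB : IsPGroup 2 (Subgroup.zpowers b) := by
      obtain ⟨j, -, hj⟩ := (Nat.dvd_prime_pow Nat.prime_two).mp
        (show orderOf b ∣ 2 ^ 1 from orderOf_dvd_of_pow_eq_one (by rw [pow_one, pow_two, hbb]))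
      exact IsPGroup.of_card (n := j) (by rw [Nat.card_zpowers, hj])
    refine hA.to_sup_of_normal_left' hB (Subgroup.zpowers_le.mpr ?_)
    refine Subgroup.mem_normalizer_fintype (S := (Subgroup.zpowers a : Set L)) fun x hx => ?_
    obtain ⟨j, rfl⟩ := Subgroup.mem_zpowers_iff.mp hx
    rw [SetLike.mem_coe, ← conj_zpow, inv_eq_of_mul_eq_one_right hbb, hconj]
    exact zpow_mem (mul_mem (mul_mem (Subgroup.mem_zpowers a) (Subgroup.mem_zpowers a))
      (Subgroup.mem_zpowers a)) j
  haveI : Fact (Nat.Prime 2) := ⟨Nat.prime_two⟩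
  obtain ⟨Q, hQ⟩ := hPg.exists_le_sylow
  have haQ : a ∈ (Q : Subgroup L) := hQ (Subgroup.mem_sup_left (Subgroup.mem_zpowers a))
  have hbQ : b ∈ (Q : Subgroup L) := hQ (Subgroup.mem_sup_right (Subgroup.mem_zpowers b))
  have hQcent : ∀ v : L, (∀ q ∈ (Q : Subgroup L), Commute v q) → v = 1 ∨ v = z := by
    intro v hv
    obtain ⟨r, hr, hvr⟩ := hczlist v
      (((hv a haQ).mul_right (hv a haQ)).mul_right ((hv a haQ).mul_right (hv a haQ)))
    have h1 := hcent r hr
    simp only [Bool.or_eq_true, Bool.not_eq_true', Bool.and_eq_false_iff, Nat.beq_eq] at h1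
    rw [← hvr] at h1
    have hca : mulC (enc (v : G)) (d.cz.getD d.pa (0, [])).1 =
        mulC (d.cz.getD d.pa (0, [])).1 (enc (v : G)) := ha ▸ (hcomm v a).mp (hv a haQ)
    have hcb : mulC (enc (v : G)) (d.cz.getD d.pb (0, [])).1 =
        mulC (d.cz.getD d.pb (0, [])).1 (enc (v : G)) := hb ▸ (hcomm v b).mp (hv b hbQ)
    rcases h1 with ((h | h) | h) | h
    · exact absurd (Nat.beq_eq.mpr hca) (by rw [h]; exact Bool.false_ne_true)
    · exact absurd (Nat.beq_eq.mpr hcb) (by rw [h]; exact Bool.false_ne_true)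
    · exact Or.inl (hinj (by rw [h, Subgroup.coe_one, hone]))
    · exact Or.inr (hinj (h.trans hz0.symm))
  simp only [Cert.genOK, List.all_eq_true, Bool.or_eq_true, Nat.beq_eq, List.any_eq_true,
    List.mem_range, Bool.not_eq_true'] at hgen
  have hgen' : ∀ v : L, (∀ i, Commute v (e i)) → v = 1 := by
    intro v hv
    obtain ⟨r, hr, hvr⟩ := hczlist v (hz_e ▸ hv _)
    rcases hgen r hr with h | ⟨i, hi, h⟩
    · exact hinj (by rw [hvr, h, Subgroup.coe_one, hone])
    · exfalso
      have h2 := (hcomm v (e ⟨i, hi⟩)).mp (hv _)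
      rw [hvr, he] at h2
      rw [Nat.beq_eq.mpr h2] at h
      exact absurd h (by simp)
  have hSyl : ∀ v : L, v ∈ Set.range e ↔ Nat.card (Subgroup.centralizer {v}) = m := by
    intro v
    constructor
    · intro hv
      obtain ⟨x, rfl⟩ := isConj_iff.mp ((hclass v).mp hv)
      rw [card_centralizer_conj, hcent_card]
    · intro hv
      have hv1 : v ≠ 1 := by
        rintro rfl
        have h1 : Subgroup.centralizer ({1} : Set L) = ⊤ := by
          ext x; simp [Subgroup.mem_centralizer_singleton_iff]
        rw [h1, Subgroup.card_top, hN, ← hNm] at hv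
        have hn1 : d.n = 1 := by
          have := hv.trans (mul_one m).symm
          exact Nat.eq_of_mul_eq_mul_left hm this
        -- then the involution is central
        have hcz' : Subgroup.centralizer {z} = ⊤ := Subgroup.eq_top_of_card_eq _ (by
          rw [hcent_card, hN, ← hNm, hn1, mul_one])
        have hzc : z ∈ Subgroup.center L := Subgroup.mem_center_iff.mpr fun x =>
          Subgroup.mem_centralizer_singleton_iff.mp (hcz' ▸ Subgroup.mem_top x)
        exact hzne (hgen' z fun i => (Subgroup.mem_center_iff.mp hzc (e i)).symm)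
      obtain ⟨R', hR'⟩ := Sylow.exists_subgroup_card_pow_prime (G := Subgroup.centralizer {v}) 2 (n := 4)
        (by rw [hv]; exact h16)
      have hRp : IsPGroup 2 (R'.map (Subgroup.centralizer {v}).subtype) :=
        (IsPGroup.of_card hR').map _
      obtain ⟨Q', hQ'⟩ := hRp.exists_le_sylow
      have hQ'card : Nat.card (Q' : Subgroup L) ≤ 2 ^ 4 := by
        obtain ⟨j, hj⟩ := IsPGroup.iff_card.mp Q'.isPGroup'
        rw [hj]
        refine Nat.pow_le_pow_right two_pos (Nat.le_of_not_lt fun h5 => h32 ?_)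
        exact hN ▸ (pow_dvd_pow 2 h5).trans (hj ▸ Subgroup.card_subgroup_dvd_card _)
      have heq' : R'.map (Subgroup.centralizer {v}).subtype = Q' :=
        Subgroup.eq_of_le_of_card_ge hQ' (by
          rw [Nat.card_congr (R'.equivMapOfInjective _ (Subgroup.subtype_injective _)).toEquiv.symm, hR']
          exact hQ'card)
      obtain ⟨x, hx⟩ := MulAction.exists_smul_eq L Q' Q
      have hcom : ∀ q ∈ (Q : Subgroup L), Commute (x * v * x⁻¹) q := by
        intro q hq
        rw [← hx] at hq
        change q ∈ MulAut.conj x • (Q' : Subgroup L) at hq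
        obtain ⟨q', hq', rfl⟩ := hq
        obtain ⟨w, hw, rfl⟩ : q' ∈ R'.map (Subgroup.centralizer {v}).subtype := heq'.symm ▸ hq'
        exact (show Commute v (w : L) from (Subgroup.mem_centralizer_singleton_iff.mp w.2).symm).map
          (MulAut.conj x).toMonoidHom
      rw [hclass]
      rcases hQcent _ hcom with h | h
      · exact absurd (conj_eq_one_iff.mp h) hv1
      · exact isConj_comm.mp (isConj_iff.mpr ⟨x, h⟩)
  simp only [Cert.rowsOK, List.all_eq_true, List.mem_range, beq_iff_eq] at hrows
  refine recover f hf e heinj d.rows (fun i j => ?_) m hSyl hgen' k ?_ (hN ▸ hfac)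
  · rw [hrows i i.2 j j.2, Nat.beq_eq, hcomm, he, he]
  · rw [hN]
    exact (card_fix_le d.rows d.stepList [] _ le_rfl (fun _ _ _ hd => absurd hd List.not_mem_nil)
      (fun x => Or.inr (hstep x))).trans hbd

end Cfsg.Agent.CommGraph
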